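import Groth.Agent.EulerChar.Push
import Groth.Agent.EulerChar.FiniteMap
import Groth.Agent.EulerChar.Components
import Groth.Agent.CohDev.Gen
import Groth.Agent.KFlat.FlatPull
import Groth.Agent.NumTriv.Union
import Groth.Agent.HilbStrat.Union
import Groth.Agent.S12131
import Groth.Prelude.Def_Mor2

/-!
`χ` is multiplicative in finite étale coverings (no Riemann–Roch needed).
-/

set_option autoImplicit false
set_option linter.style.haveILetI false

universe u

open CategoryTheory CategoryTheory.Limits AlgebraicGeometry TopologicalSpace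
open Groth.Agent.PullStalk.Sky Groth.Agent.PullStalk.Exact

noncomputable section

namespace Groth.Agent.EtChi28

open CohDev (kcl)

/-- The image of a point is in the support of the pushed structure module. -/
theorem mem_support_push_structure {X Y : Scheme.{u}} (f : X ⟶ Y) (x : X) :
    f x ∈ CohB1.support ((Coh.push f).obj (Coh.structureModule X)) := by
  intro hs
  let P := (Coh.push f).obj (Coh.structureModule X)
  obtain ⟨W, hyW, i₁, i₂, e⟩ := P.presheaf.germ_eq (f x) (show f x ∈ (⊤ : Y.Opens) from trivial)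
    (show f x ∈ (⊤ : Y.Opens) from trivial) (show Γ(X, f ⁻¹ᵁ ⊤) from 1) 0 (hs.elim _ _)
  have h1 : (1 : Γ(X, f ⁻¹ᵁ W)) = 0 :=
    ((map_one (X.presheaf.map ((Opens.map f.base).map i₁).op).hom).symm.trans e).trans (map_zero _)
  exact one_ne_zero (α := X.presheaf.stalk x)
    ((map_one (X.presheaf.germ (f ⁻¹ᵁ W) x hyW).hom).symm.trans
      ((congrArg (X.presheaf.germ (f ⁻¹ᵁ W) x hyW) h1).trans (map_zero _)))

/-- The support of a direct image lies in the closure of the range. -/
theorem support_push_subset_closure {X Y : Scheme.{u}} (f : X ⟶ Y) (N : X.Modules) :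
    CohB1.support ((Coh.push f).obj N) ⊆ closure (Set.range f) := by
  intro y hy
  by_contra h
  refine hy (ClUnit.subsingleton_stalk_pushforward f N y
    ⟨(closure (Set.range f))ᶜ, isClosed_closure.isOpen_compl⟩ h ?_)
  exact le_bot_iff.mp fun z hz => hz (subset_closure ⟨z, rfl⟩)

/-- An additive function on `K₀` killing, for each point, some module with that generic support
vanishes. -/
theorem eq_zero_of_test {X : Scheme.{u}} [IsNoetherian X] (f : SGA6.Kcoh X →+ ℤ)
    (h : ∀ x : X, ∃ G : X.Modules, Coh.IsCoh G ∧ CohB1.support G ⊆ closure {x} ∧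
      x ∈ CohB1.support G ∧ f (kcl G) = 0) {F : X.Modules} (hF : Coh.IsCoh F) : f (kcl F) = 0 := by
  refine CohDev.devissage_two (T := Set.univ) isClosed_univ (P := fun M => f (kcl M) = 0)
    (fun M hM => by rw [CohDev.kcl_of_isZero hM, map_zero])
    (fun S hS h₁ h₂ h₃ _ => by
      have := congrArg f (CohDev.kcl_add hS h₁ h₂ h₃)
      rw [map_add] at this
      exact ⟨fun a b => by linarith, fun a b => by linarith, fun a b => by linarith⟩)
    (fun x _ J hJ hsmall => ?_) hF (Set.subset_univ _)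
  obtain ⟨G, hG, hGs, hxG, hfG⟩ := h x
  have key : ∀ M : X.Modules, Coh.IsCoh M → CohB1.support M ⊆ closure {x} →
      Module.length (X.presheaf.stalk x) (M.presheaf.stalk x) ≠ ⊤ ∧
        f (kcl M) = ((Module.length (X.presheaf.stalk x) (M.presheaf.stalk x)).toNat : ℤ) * f (kcl J) := by
    intro M hM hMs
    refine CohDev.devissage_on (closure {x}) (fun M => Module.length (X.presheaf.stalk x) (M.presheaf.stalk x) ≠ ⊤ ∧
      f (kcl M) = ((Module.length (X.presheaf.stalk x) (M.presheaf.stalk x)).toNat : ℤ) * f (kcl J))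
      (fun A hA => ?_) (fun S hS h₁ h₂ h₃ _ p₁ p₃ => ?_) (fun y hy J' hJ' _ => ?_) hM hMs
    · have h0 : Module.length (X.presheaf.stalk x) (A.presheaf.stalk x) = 0 :=
        Module.length_eq_zero_iff.2 (AddCommGrpCat.subsingleton_of_isZero
          ((Scheme.Modules.toPresheaf X ⋙ TopCat.Presheaf.stalkFunctor AddCommGrpCat.{u} x).map_isZero hA))
      simp [h0, CohDev.kcl_of_isZero hA]
    · obtain ⟨hi, he, hs⟩ := stalk_exact hS x
      have hadd : Module.length (X.presheaf.stalk x) (S.X₂.presheaf.stalk x) = Module.length (X.presheaf.stalk x) (S.X₁.presheaf.stalk x) + Module.length (X.presheaf.stalk x) (S.X₃.presheaf.stalk x) :=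
        Module.length_eq_add_of_exact _ _ hi hs he
      refine ⟨by rw [hadd]; exact WithTop.add_ne_top.2 ⟨p₁.1, p₃.1⟩, ?_⟩
      rw [CohDev.kcl_add hS h₁ h₂ h₃, map_add, p₁.2, p₃.2, hadd, ENat.toNat_add p₁.1 p₃.1]
      push_cast
      ring
    · have hys := hJ'.support_subset
      obtain ⟨g', hgm', hJc', hyJ'⟩ := hJ'
      haveI := hgm'
      by_cases hyx : y = x
      · subst hyx
        obtain ⟨g, hgm, hJc, hyJ⟩ := hJ
        haveI := hgm
        have hb := CohDev.stalk_piece g' hyJ'
        have hb₀ := CohDev.stalk_piece g hyJ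
        have hl : Module.length (X.presheaf.stalk y) (J'.presheaf.stalk y) = 1 :=
          (LinearEquiv.ofBijective (stalkLin g' y) hb).length_eq.trans (CohDev.length_stalk_oz y)
        refine ⟨by simp [hl], ?_⟩
        have hoz := CohDev.isCoh_oz y
        have hc : ∀ {A : X.Modules} (u : A ⟶ Cyc.closureStructureSheaf y) [Mono u],
            Coh.IsCoh A → Function.Surjective (stalkLin u y) → f (kcl A) =
              f (kcl (Cyc.closureStructureSheaf y)) := fun u _ hA hu => by
          have hQ := CohDev.isCoh_cokernel u hA.1 hoz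
          rw [CohDev.kcl_mono u hA hoz, map_add, hsmall _ hQ
            ((CohDev.support_subset_of_epi (cokernel.π u)).trans (CohDev.support_oz_subset y))
            (CohDev.not_mem_support_cokernel u hu), add_zero]
        rw [hl, hc g' hJc' hb.2, hc g hJc hb₀.2]
        simp
      · have hxy : x ∉ CohB1.support J' := fun hx => hyx
          (Inseparable.eq ((specializes_iff_mem_closure.2 (hys hx)).antisymm
            (specializes_iff_mem_closure.2 hy)))
        have hl : Module.length (X.presheaf.stalk x) (J'.presheaf.stalk x) = 0 := Module.length_eq_zero_iff.2 (not_not.1 hxy)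
        rw [hl, hsmall _ hJc' (hys.trans (closure_minimal (Set.singleton_subset_iff.2 hy)
          isClosed_closure)) hxy]
        simp
  obtain ⟨ht, he⟩ := key G hG hGs
  rw [hfG] at he
  have hne : (Module.length (X.presheaf.stalk x) (G.presheaf.stalk x)).toNat ≠ 0 := fun h0 => by
    rcases ENat.toNat_eq_zero.1 h0 with h | h
    · exact hxG (Module.length_eq_zero_iff.1 h)
    · exact ht h
  rcases mul_eq_zero.1 he.symm with h0 | h0
  · exact absurd (by exact_mod_cast h0) hne
  · exact h0

variable (k : Type u) [Field k]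

/-- `χ` of a pullback along a flat morphism, as a function on `K₀`. -/
def chiPull {W Y : Scheme.{u}} [W.Over (Spec (CommRingCat.of k))]
    [IsProper (W ↘ Spec (CommRingCat.of k))] (ψ : W ⟶ Y) [Flat ψ] : SGA6.Kcoh Y →+ ℤ :=
  EulerChar.liftK (fun G => Curv2.euler k W ((Scheme.Modules.pullback ψ).obj G)) fun S hS h₁ h₂ h₃ =>
    @EulerChar.euler_add k _ W _ _ (S.map (Scheme.Modules.pullback ψ))
      (hS.map_of_exact _) (ZClosLib.CohDescent.isCoh_pullback ψ S.X₁ h₁)
      (ZClosLib.CohDescent.isCoh_pullback ψ S.X₂ h₂) (ZClosLib.CohDescent.isCoh_pullback ψ S.X₃ h₃)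

theorem chiPull_kcl {W Y : Scheme.{u}} [W.Over (Spec (CommRingCat.of k))]
    [IsProper (W ↘ Spec (CommRingCat.of k))] (ψ : W ⟶ Y) [Flat ψ] {G : Y.Modules} (hG : Coh.IsCoh G) :
    chiPull k ψ (kcl G) = Curv2.euler k W ((Scheme.Modules.pullback ψ).obj G) :=
  EulerChar.liftK_kcl _ _ hG

/-- `χ` on `K₀`. -/
def chiK (Y : Scheme.{u}) [Y.Over (Spec (CommRingCat.of k))]
    [IsProper (Y ↘ Spec (CommRingCat.of k))] : SGA6.Kcoh Y →+ ℤ :=
  EulerChar.liftK (fun G => Curv2.euler k Y G) fun _ hS h₁ h₂ h₃ => EulerChar.euler_add k hS h₁ h₂ h₃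

theorem chiK_kcl (Y : Scheme.{u}) [Y.Over (Spec (CommRingCat.of k))]
    [IsProper (Y ↘ Spec (CommRingCat.of k))] {G : Y.Modules} (hG : Coh.IsCoh G) :
    chiK k Y (kcl G) = Curv2.euler k Y G :=
  EulerChar.liftK_kcl _ _ hG

/-- A test module at a point in the image: the direct image of a reduced closure. -/
theorem exists_test {W : Scheme.{u}} [IsNoetherian W] (w : W) :
    ∃ H : W.Modules, Coh.IsCoh H ∧ ∀ {Y : Scheme.{u}} (ψ : W ⟶ Y),
      CohB1.support ((Coh.push ψ).obj H) ⊆ closure {ψ w} ∧ ψ w ∈ CohB1.support ((Coh.push ψ).obj H) := by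
  let ι := (IntMult.ptIdeal w).subschemeι
  have hr : Set.range ι = closure ({w} : Set W) :=
    (IntMult.ptIdeal w).range_subschemeι.trans rfl
  refine ⟨(Coh.push ι).obj (Coh.structureModule _),
    ProperFin.isCoh_push_of_isFinite ι _ (ProperFin.isCoh_structureModule _), fun {Y} ψ => ?_⟩
  let e : (Coh.push ψ).obj ((Coh.push ι).obj (Coh.structureModule (IntMult.ptIdeal w).subscheme)) ≅
      (Coh.push (ι ≫ ψ)).obj (Coh.structureModule (IntMult.ptIdeal w).subscheme) :=
    (Scheme.Modules.pushforwardComp ι ψ).app _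
  refine ⟨(CohDev.support_subset_of_mono e.hom).trans ((support_push_subset_closure _ _).trans
    (closure_minimal ?_ isClosed_closure)), ?_⟩
  · rintro _ ⟨z, rfl⟩
    rw [Scheme.Hom.comp_apply, ← specializes_iff_mem_closure]
    exact (specializes_iff_mem_closure.2 (hr.le ⟨z, rfl⟩)).map ψ.continuous
  · obtain ⟨z, hz⟩ := hr.ge (subset_closure rfl)
    have := CohDev.support_subset_of_mono e.inv (mem_support_push_structure (ι ≫ ψ) z)
    rwa [Scheme.Hom.comp_apply, hz] at this

/-- `χ` is additive on a decomposition into two open closed pieces. -/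
theorem euler_split {P A B : Scheme.{u}} [P.Over (Spec (CommRingCat.of k))]
    [A.Over (Spec (CommRingCat.of k))] [B.Over (Spec (CommRingCat.of k))]
    [IsProper (P ↘ Spec (CommRingCat.of k))] [IsProper (A ↘ Spec (CommRingCat.of k))]
    [IsProper (B ↘ Spec (CommRingCat.of k))]
    (a : A ⟶ P) (b : B ⟶ P) [IsClosedImmersion a] [IsOpenImmersion a] [IsClosedImmersion b]
    [IsOpenImmersion b] (wa : a ≫ (P ↘ Spec (CommRingCat.of k)) = A ↘ Spec (CommRingCat.of k))
    (wb : b ≫ (P ↘ Spec (CommRingCat.of k)) = B ↘ Spec (CommRingCat.of k))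
    (h : IsCompl (Set.range a) (Set.range b)) {F : P.Modules} (hF : Coh.IsCoh F) :
    Curv2.euler k P F = Curv2.euler k A ((Scheme.Modules.pullback a).obj F) +
      Curv2.euler k B ((Scheme.Modules.pullback b).obj F) := by
  haveI := EulerChar.isNoetherian k (X := P)
  haveI := EulerChar.isNoetherian k (X := A)
  haveI := EulerChar.isNoetherian k (X := B)
  have one : ∀ {A B : Scheme.{u}} [A.Over (Spec (CommRingCat.of k))] [B.Over (Spec (CommRingCat.of k))]
      [IsProper (A ↘ Spec (CommRingCat.of k))] [IsProper (B ↘ Spec (CommRingCat.of k))]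
      [AlgebraicGeometry.IsNoetherian A]
      (a : A ⟶ P) (b : B ⟶ P) [IsClosedImmersion a] [IsOpenImmersion a] [IsClosedImmersion b]
      [IsOpenImmersion b] (_ : a ≫ (P ↘ Spec (CommRingCat.of k)) = A ↘ Spec (CommRingCat.of k))
      (_ : Disjoint (Set.range b) (Set.range a)) (z : A),
      ∃ G : P.Modules, Coh.IsCoh G ∧ CohB1.support G ⊆ closure {a z} ∧ a z ∈ CohB1.support G ∧
        Curv2.euler k P G = Curv2.euler k A ((Scheme.Modules.pullback a).obj G) +
          Curv2.euler k B ((Scheme.Modules.pullback b).obj G) := by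
    intro A B _ _ _ _ _ a b _ _ _ _ wa hd z
    obtain ⟨H, hH, ht⟩ := exists_test z
    refine ⟨(Coh.push a).obj H, ProperFin.isCoh_push_of_isFinite a H hH, (ht a).1, (ht a).2, ?_⟩
    have e1 : Curv2.euler k P ((Coh.push a).obj H) = Curv2.euler k A H :=
      EulerChar.euler_push a wa H hH.1
    have e2 : Curv2.euler k A ((Scheme.Modules.pullback a).obj ((Coh.push a).obj H)) =
        Curv2.euler k A H :=
      EulerChar.euler_iso k ((asIso (Scheme.Modules.pullbackPushforwardAdjunction a).counit).app H)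
    have e3 : Curv2.euler k B ((Scheme.Modules.pullback b).obj ((Coh.push a).obj H)) = 0 :=
      EulerChar.euler_of_isZero k (NumTriv.Union.isZero_pullback_push a b hd H)
    rw [e1, e2, e3, add_zero]
  have := eq_zero_of_test (chiK k P - chiPull k a - chiPull k b) (fun x => ?_) hF
  · simp only [AddMonoidHom.sub_apply, chiK_kcl k P hF, chiPull_kcl k _ hF] at this
    linarith
  rcases h.codisjoint.top_le (Set.mem_univ x) with ⟨z, rfl⟩ | ⟨z, rfl⟩
  · obtain ⟨G, hG, h1, h2, h3⟩ := one a b wa h.disjoint.symm z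
    exact ⟨G, hG, h1, h2, by
      simp only [AddMonoidHom.sub_apply, chiK_kcl k P hG, chiPull_kcl k _ hG]; linarith⟩
  · obtain ⟨G, hG, h1, h2, h3⟩ := one b a wb h.disjoint z
    exact ⟨G, hG, h1, h2, by
      simp only [AddMonoidHom.sub_apply, chiK_kcl k P hG, chiPull_kcl k _ hG]; linarith⟩

/-- `χ(ψ^* G) = d χ(G)` for a finite étale covering of degree `d`. -/
theorem euler_pullback_etale : ∀ (d : ℕ) {W Y : Scheme.{u}} [W.Over (Spec (CommRingCat.of k))]
    [Y.Over (Spec (CommRingCat.of k))] [IsProper (W ↘ Spec (CommRingCat.of k))]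
    [IsProper (Y ↘ Spec (CommRingCat.of k))] (ψ : W ⟶ Y) [Etale ψ],
    ψ ≫ (Y ↘ Spec (CommRingCat.of k)) = W ↘ Spec (CommRingCat.of k) →
    Mor2.IsFinLocFreeOfDeg d ψ → ∀ {G : Y.Modules}, Coh.IsCoh G →
      Curv2.euler k W ((Scheme.Modules.pullback ψ).obj G) = d * Curv2.euler k Y G := by
  intro d
  induction d with
  | zero =>
    intro W Y _ _ _ _ ψ _ w hd G hG
    obtain ⟨⟨hfin, hflat, -⟩, hdeg⟩ := hd
    haveI : IsEmpty W := ⟨fun x => by
      have h := Scheme.Hom.one_le_finrank_map ψ x
      rw [hdeg] at h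
      omega⟩
    rw [Nat.cast_zero, zero_mul]
    exact EulerChar.euler_of_isZero k (CohDev.isZero_of_support_eq_empty
      (Set.eq_empty_of_forall_notMem fun x => isEmptyElim x))
  | succ d ih =>
    intro W Y _ _ _ _ ψ _ w hd G hG
    obtain ⟨⟨hfin, hflat, hfp⟩, hdeg⟩ := hd
    haveI := EulerChar.isNoetherian k (X := Y)
    haveI := EulerChar.isNoetherian k (X := W)
    haveI : Surjective ψ := (Scheme.Hom.one_le_finrank_iff_surjective ψ).1 fun y => by
      rw [hdeg]; exact Nat.le_add_left 1 d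
    let P := pullback ψ ψ
    let p₁ : P ⟶ W := pullback.fst ψ ψ
    let p₂ : P ⟶ W := pullback.snd ψ ψ
    letI : P.Over (Spec (CommRingCat.of k)) := ⟨p₁ ≫ (W ↘ Spec (CommRingCat.of k))⟩
    haveI : IsFinite p₁ := MorphismProperty.pullback_fst (P := @IsFinite) ψ ψ hfin
    haveI : IsFinite p₂ := MorphismProperty.pullback_snd (P := @IsFinite) ψ ψ hfin
    haveI : Flat p₁ := MorphismProperty.pullback_fst (P := @Flat) ψ ψ hflat
    haveI : Etale p₁ := MorphismProperty.pullback_fst (P := @Etale) ψ ψ ‹_›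
    haveI : IsProper (P ↘ Spec (CommRingCat.of k)) :=
      inferInstanceAs (IsProper (p₁ ≫ (W ↘ Spec (CommRingCat.of k))))
    haveI := EulerChar.isNoetherian k (X := P)
    have w₂ : p₂ ≫ (W ↘ Spec (CommRingCat.of k)) = P ↘ Spec (CommRingCat.of k) := by
      show _ = p₁ ≫ _
      rw [← w, pullback.condition_assoc]
    -- the diagonal and its complement
    let Δ : W ⟶ P := pullback.diagonal ψ
    have hΔ : Δ ≫ p₁ = 𝟙 W := pullback.diagonal_fst ψ
    haveI : IsClosedImmersion Δ := inferInstanceAs (IsClosedImmersion (pullback.diagonal ψ))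
    haveI : IsOpenImmersion Δ := inferInstanceAs (IsOpenImmersion (pullback.diagonal ψ))
    let U : P.Opens := ⟨(Set.range Δ)ᶜ, Δ.isClosedEmbedding.isClosed_range.isOpen_compl⟩
    haveI : IsClosedImmersion U.ι := IsClosedImmersion.of_isPreimmersion U.ι (by
      rw [Scheme.Opens.range_ι]; exact Δ.isOpenEmbedding.isOpen_range.isClosed_compl)
    letI : (U : Scheme.{u}).Over (Spec (CommRingCat.of k)) := ⟨U.ι ≫ (P ↘ Spec (CommRingCat.of k))⟩
    haveI : IsProper ((U : Scheme.{u}) ↘ Spec (CommRingCat.of k)) :=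
      inferInstanceAs (IsProper (U.ι ≫ (P ↘ Spec (CommRingCat.of k))))
    have hcompl : IsCompl (Set.range Δ) (Set.range U.ι) := by
      rw [Scheme.Opens.range_ι]; exact isCompl_compl
    haveI : Flat Δ := inferInstance
    haveI : IsFinite (Δ ≫ p₁) := by rw [hΔ]; infer_instance
    haveI : Flat (Δ ≫ p₁) := by rw [hΔ]; infer_instance
    haveI : IsFinite U.ι := inferInstance
    haveI : IsFinite (U.ι ≫ p₁) := MorphismProperty.comp_mem @IsFinite _ _ inferInstance inferInstance
    haveI : Flat (U.ι ≫ p₁) := MorphismProperty.comp_mem @Flat _ _ inferInstance inferInstance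
    have hdU : Mor2.IsFinLocFreeOfDeg d (U.ι ≫ p₁) := by
      refine ⟨⟨inferInstance, inferInstance, inferInstance⟩, fun y => ?_⟩
      obtain ⟨hc⟩ := AlgebraicGeometry.nonempty_isColimit_binaryCofanMk_of_isCompl Δ U.ι (by
        rw [isCompl_iff, disjoint_iff, codisjoint_iff]
        refine ⟨SetLike.coe_injective ?_, SetLike.coe_injective ?_⟩
        · simpa using hcompl.inf_eq_bot
        · simpa using hcompl.sup_eq_top)
      let e : W ⨿ (U : Scheme.{u}) ≅ P := (coprodIsCoprod W (U : Scheme.{u})).coconePointUniqueUpToIso hc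
      have h1 : coprod.inl ≫ e.hom = Δ :=
        (coprodIsCoprod W (U : Scheme.{u})).comp_coconePointUniqueUpToIso_hom hc ⟨WalkingPair.left⟩
      have h2 : coprod.inr ≫ e.hom = U.ι :=
        (coprodIsCoprod W (U : Scheme.{u})).comp_coconePointUniqueUpToIso_hom hc ⟨WalkingPair.right⟩
      haveI : IsFinite (coprod.inl ≫ e.hom ≫ p₁) := by rw [reassoc_of% h1]; infer_instance
      haveI : IsFinite (coprod.inr ≫ e.hom ≫ p₁) := by rw [reassoc_of% h2]; infer_instance
      haveI : Flat (coprod.inl ≫ e.hom ≫ p₁) := by rw [reassoc_of% h1]; infer_instance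
      haveI : Flat (coprod.inr ≫ e.hom ≫ p₁) := by rw [reassoc_of% h2]; infer_instance
      have h3 := HilbStrat.finrank_coprod (e.hom ≫ p₁) y
      rw [Scheme.Hom.finrank_comp_left_of_isIso, Scheme.Hom.finrank_pullback_fst, hdeg] at h3
      simp only [reassoc_of% h1, reassoc_of% h2, hΔ, Scheme.Hom.finrank_eq_one_of_isIso,
        Pi.one_apply] at h3
      omega
    have hfz : ∀ H : W.Modules, Coh.IsCoh H →
        Curv2.euler k W ((Scheme.Modules.pullback ψ).obj ((Coh.push ψ).obj H)) =
          (d + 1 : ℕ) * Curv2.euler k Y ((Coh.push ψ).obj H) := by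
      intro H hH
      haveI := hH.1
      have hpH := ZClosLib.CohDescent.isCoh_pullback p₁ H hH
      haveI := hpH.1
      have hbc := S12131.result ψ ψ p₁ p₂ (IsPullback.of_hasPullback ψ ψ) H
      let u := @asIso _ _ _ _ _ hbc
      rw [EulerChar.euler_iso k u, EulerChar.euler_push p₂ w₂ _ hpH.1,
        EulerChar.euler_push ψ w H hH.1,
        euler_split k Δ U.ι (by show Δ ≫ p₁ ≫ _ = _; rw [reassoc_of% hΔ]) rfl hcompl hpH]
      have e1 : Curv2.euler k W ((Scheme.Modules.pullback Δ).obj ((Scheme.Modules.pullback p₁).obj H)) =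
          Curv2.euler k W H :=
        EulerChar.euler_iso k ((Scheme.Modules.pullbackComp Δ p₁).app H ≪≫
          (Scheme.Modules.pullbackCongr hΔ).app H ≪≫ (Scheme.Modules.pullbackId W).app H)
      have e2 := ih (U.ι ≫ p₁) (Category.assoc _ _ _) hdU hH
      have e3 := EulerChar.euler_iso k ((Scheme.Modules.pullbackComp U.ι p₁).app H) (X := (U : Scheme.{u}))
      simp only [Functor.comp_obj] at e3
      rw [e1, e3, e2]
      push_cast
      ring
    have := eq_zero_of_test (chiPull k ψ - (d + 1) • chiK k Y) (fun y => ?_) hG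
    · simp only [AddMonoidHom.sub_apply, AddMonoidHom.coe_smul, Pi.smul_apply, chiK_kcl k Y hG,
        chiPull_kcl k ψ hG, nsmul_eq_mul] at this
      linarith
    obtain ⟨x, rfl⟩ := ψ.surjective y
    obtain ⟨H, hH, ht⟩ := exists_test x
    have hc : Coh.IsCoh ((Coh.push ψ).obj H) := ProperFin.isCoh_push_of_isFinite ψ H hH
    refine ⟨_, hc, (ht ψ).1, (ht ψ).2, ?_⟩
    simp only [AddMonoidHom.sub_apply, AddMonoidHom.coe_smul, Pi.smul_apply, chiK_kcl k Y hc,
      chiPull_kcl k ψ hc, nsmul_eq_mul, hfz H hH, sub_self]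

end Groth.Agent.EtChi28
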